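import Mathlib
import Groth.Agent.PSLib.Regular
import Groth.Agent.RegLoc6.Normal

/-!
# Power series with coefficients in subfields
-/

set_option autoImplicit false
set_option linter.style.haveILetI false

universe u

open MvPowerSeries

noncomputable section

namespace Groth.Agent.CGab

variable {κ : Type u} [Field κ] (p : ℕ) (hp : p ≠ 0) {n : ℕ}

/-- The series with coefficients in a subfield. -/
def coeffIn (F : Subfield κ) : MvPowerSeries (Fin n) F →+* MvPowerSeries (Fin n) κ := MvPowerSeries.map F.subtype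

theorem coeffIn_injective (F : Subfield κ) : Function.Injective (coeffIn (n := n) F) := fun f g h => by
  ext d
  have := congrArg (coeff d) h
  simpa [coeffIn, coeff_map] using this

theorem exists_coeffIn (F : Subfield κ) (g : MvPowerSeries (Fin n) κ) (h : ∀ d, coeff d g ∈ F) :
    ∃ q, coeffIn F q = g :=
  ⟨fun d => ⟨coeff d g, h d⟩, by ext d; rw [coeffIn, coeff_map]; rfl⟩

/-- Series are combinations of monomials with coefficients in the image of the power substitution. -/
theorem exists_decomp (F : Subfield κ) {E : Type*} [Fintype E] (v : E → κ)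
    (hv : ∀ c : κ, ∃ a : E → F, c = ∑ e, (a e : κ) * v e) (g : MvPowerSeries (Fin n) κ) :
    ∃ q : (Fin n → Fin p) × E → MvPowerSeries (Fin n) F, g = ∑ re : (Fin n → Fin p) × E,
      C (v re.2) * monomial (Finsupp.equivFunOnFinite.symm fun i => (re.1 i : ℕ)) 1 * expand p hp (coeffIn F (q re)) := by
  classical
  choose a ha using hv
  refine ⟨fun re => fun d => a (coeff (p • d + Finsupp.equivFunOnFinite.symm fun i => (re.1 i : ℕ)) g) re.2, ?_⟩
  ext d
  rw [map_sum]
  let r : Fin n → Fin p := fun i => ⟨d i % p, Nat.mod_lt _ (Nat.pos_of_ne_zero hp)⟩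
  let m : Fin n →₀ ℕ := Finsupp.equivFunOnFinite.symm fun i => d i / p
  have hd : p • m + Finsupp.equivFunOnFinite.symm (fun i => (r i : ℕ)) = d := by
    ext i
    simp [r, m, Nat.div_add_mod]
  rw [Fintype.sum_prod_type, Fintype.sum_eq_single r]
  · conv_lhs => rw [ha (coeff d g)]
    refine Finset.sum_congr rfl fun e _ => ?_
    rw [mul_assoc, coeff_C_mul, coeff_monomial_mul, if_pos (hd ▸ le_add_self), one_mul]
    conv_rhs => rw [← hd, add_tsub_cancel_right, coeff_expand_smul, coeffIn, coeff_map, coeff_apply]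
    show _ = v e * ((a (coeff (p • m + _) g) e : F) : κ)
    rw [hd, mul_comm]
  · intro r' hr'
    refine Finset.sum_eq_zero fun e _ => ?_
    rw [mul_assoc, coeff_C_mul, coeff_monomial_mul]
    split_ifs with hle
    · obtain ⟨i, hi⟩ : ∃ i, r' i ≠ r i := by
        by_contra! h
        exact hr' (funext h)
      rw [coeff_expand_of_not_dvd (i := i) (h := fun hdvd => hi (Fin.ext ?_)), mul_zero, mul_zero]
      have h1 : (r' i : ℕ) ≤ d i := by simpa using hle i
      obtain ⟨c, hc⟩ := hdvd
      have h2 : d i - (r' i : ℕ) = p * c := by simpa using hc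
      show (r' i : ℕ) = d i % p
      rw [show d i = (r' i : ℕ) + p * c by omega, Nat.add_mul_mod_self_left, Nat.mod_eq_of_lt (r' i).2]
    · rw [mul_zero]

/-- Quotients of series with coefficients in every member are `p`-th powers of quotients. -/
theorem exists_pow_eq {L : Type u} [Field L] [Fact p.Prime] [CharP κ p] (φ : MvPowerSeries (Fin n) κ →+* L)
    (hφ : Function.Injective φ) {α : Type*} [Nonempty α] (F : α → Subfield κ) (hpow : ∀ i c, c ^ p ∈ F i)
    (hcap : ∀ c, (∀ i, c ∈ F i) → ∃ b, b ^ p = c) (z : L)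
    (hz : ∀ i, z ∈ Subfield.closure (Set.range (φ.comp ((expand p hp).toRingHom.comp (coeffIn (F i)))))) :
    ∃ a b : MvPowerSeries (Fin n) κ, z = (φ a / φ b) ^ p := by
  classical
  have hp' : 0 < p := Nat.pos_of_ne_zero hp
  have hex : Function.Injective (expand p hp : MvPowerSeries (Fin n) κ →ₐ[κ] _) := fun f g h => by
    ext d
    rw [← coeff_expand_smul p hp f d, h, coeff_expand_smul]
  let Φ : MvPowerSeries (Fin n) κ →+* L := φ.comp (expand p hp).toRingHom
  have hΦ : Function.Injective Φ := hφ.comp hex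
  have hgen : ∀ i, ∃ r s, z = Φ (coeffIn (F i) r) / Φ (coeffIn (F i) s) := fun i => by
    obtain ⟨x, hx, y, hy, hxy⟩ := Subfield.mem_closure_iff.1 (hz i)
    rw [← RingHom.coe_range, Subring.closure_eq] at hx hy
    obtain ⟨r, rfl⟩ := hx
    obtain ⟨s, rfl⟩ := hy
    exact ⟨r, s, hxy.symm⟩
  obtain ⟨i₀⟩ := ‹Nonempty α›
  obtain ⟨r₀, s₀, h₀⟩ := hgen i₀
  by_cases hs₀ : s₀ = 0
  · refine ⟨0, 1, ?_⟩
    rw [h₀, hs₀, map_zero, map_zero, div_zero, map_zero, zero_div, zero_pow hp]
  let a := coeffIn (F i₀) r₀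
  let b := coeffIn (F i₀) s₀
  have hb : b ≠ 0 := (map_ne_zero_iff _ (coeffIn_injective _)).2 hs₀
  let c := a * b ^ (p - 1)
  have hzc : z * Φ (b ^ p) = Φ c := by
    rw [h₀, map_mul, map_pow, map_pow, div_mul_eq_mul_div]
    refine (div_eq_iff ((map_ne_zero_iff _ hΦ).2 hb)).2 ?_
    rw [mul_assoc, ← pow_succ, Nat.sub_add_cancel hp']
  have hpowC : ∀ i (f : MvPowerSeries (Fin n) κ), ∃ q, coeffIn (F i) q = f ^ p := fun i f => by
    refine exists_coeffIn (F i) _ fun d => ?_
    rw [← map_frobenius_expand p hp, coeff_map]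
    exact hpow i _
  have hc : ∀ i d, coeff d c ∈ F i := fun i => by
    obtain ⟨r, s, hrs⟩ := hgen i
    obtain ⟨bp, hbp⟩ := hpowC i b
    obtain ⟨cp, hcp⟩ := hpowC i c
    obtain ⟨q, hq⟩ : ∃ q, coeffIn (F i) q = c := by
      by_cases hs : s = 0
      · refine ⟨0, ?_⟩
        rw [hs, map_zero, map_zero, div_zero] at hrs
        rw [hrs, zero_mul, eq_comm, map_eq_zero_iff _ hΦ] at hzc
        rw [map_zero, hzc]
      have h1 : c * coeffIn (F i) s = coeffIn (F i) (r * bp) := by
        refine hΦ ?_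
        rw [map_mul, ← hzc, hrs, map_mul, map_mul, hbp, div_mul_eq_mul_div, div_mul_cancel₀]
        exact (map_ne_zero_iff _ hΦ).2 ((map_ne_zero_iff _ (coeffIn_injective _)).2 hs)
      haveI : IsRegularLocalRing (MvPowerSeries (Fin n) (F i)) := PSLib.isRegularLocalRing _ _
      haveI : IsDomain (MvPowerSeries (Fin n) (F i)) := NoZeroDivisors.to_isDomain _
      haveI := RegLoc6.isIntegrallyClosed_of_isRegularLocalRing (MvPowerSeries (Fin n) (F i))
      let Q := MvPowerSeries (Fin n) (F i)
      have h2 : (r * bp) ^ p = cp * s ^ p := coeffIn_injective _ (by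
        rw [map_pow, ← h1, mul_pow, map_mul, map_pow, hcp])
      let t : FractionRing Q := algebraMap Q _ (r * bp) / algebraMap Q _ s
      have hs' : algebraMap Q (FractionRing Q) s ≠ 0 :=
        (map_ne_zero_iff _ (IsFractionRing.injective Q (FractionRing Q))).2 hs
      have ht : t ^ p = algebraMap Q _ cp := by
        rw [div_pow, ← map_pow, h2, map_mul, map_pow, mul_div_assoc, div_self (pow_ne_zero _ hs'), mul_one]
      obtain ⟨q, hq⟩ := IsIntegrallyClosed.algebraMap_eq_of_integral
        (IsIntegral.of_pow hp' (ht ▸ isIntegral_algebraMap) : _root_.IsIntegral Q t)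
      have h3 : q * s = r * bp := IsFractionRing.injective Q (FractionRing Q) (by
        rw [map_mul, hq, div_mul_cancel₀ _ hs'])
      refine ⟨q, mul_right_cancel₀ ((map_ne_zero_iff _ (coeffIn_injective (F i))).2 hs) ?_⟩
      rw [← map_mul, h3, h1]
    intro d
    rw [← hq, coeffIn, coeff_map]
    exact (coeff d q).2
  choose d hd using fun e => hcap (coeff e c) (fun i => hc i e)
  have hcd : (MvPowerSeries.map (frobenius κ p)) (d : MvPowerSeries (Fin n) κ) = c := by
    ext e
    rw [coeff_map]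
    exact hd e
  refine ⟨(d : MvPowerSeries (Fin n) κ), (expand p hp b), ?_⟩
  have hb' : φ (expand p hp b) ≠ 0 := (map_ne_zero_iff _ hΦ).2 hb
  rw [div_pow, eq_div_iff (pow_ne_zero _ hb'), ← map_pow φ, ← map_pow φ, ← map_pow (expand p hp)]
  refine hzc.trans ?_
  show φ (expand p hp c) = _
  rw [← hcd, ← map_expand, map_frobenius_expand]

end Groth.Agent.CGab
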