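import Mathlib
import Groth.Agent.PSLib.Regular
import Groth.Agent.CGab.Series

/-!
# Closed subrings; separability through derivations
-/

set_option autoImplicit false
set_option linter.style.haveILetI false

universe u

open MvPowerSeries IsLocalRing

noncomputable section

namespace Groth.Agent.CGab

/-- Submodules over a finite power series subring are closed. -/
theorem mem_of_forall_pow {P A : Type u} [CommRing P] [IsLocalRing P] [IsNoetherianRing P] [CommRing A] [IsLocalRing A]
    [Algebra P A] [Module.Finite P A] (N : Submodule P A) {c : ℕ}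
    (hc : maximalIdeal A ^ c ≤ (maximalIdeal P).map (algebraMap P A)) (a : A)
    (ha : ∀ j : ℕ, ∃ b ∈ N, a - b ∈ maximalIdeal A ^ j) : a ∈ N := by
  have hmem : ∀ j, Submodule.Quotient.mk a ∈ (maximalIdeal P ^ j • ⊤ : Submodule P (A ⧸ N)) := fun j => by
    obtain ⟨b, hb, hab⟩ := ha (c * j)
    have h1 : a - b ∈ ((maximalIdeal P ^ j).map (algebraMap P A)).restrictScalars P := by
      rw [pow_mul] at hab
      show a - b ∈ (maximalIdeal P ^ j).map (algebraMap P A)
      rw [Ideal.map_pow]
      exact Ideal.pow_right_mono hc j hab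
    rw [← Ideal.smul_top_eq_map] at h1
    have h2 := Submodule.mem_map_of_mem (f := N.mkQ) h1
    rw [Submodule.map_smul'', Submodule.map_top, Submodule.range_mkQ, map_sub, Submodule.mkQ_apply,
      Submodule.mkQ_apply, (Submodule.Quotient.mk_eq_zero N).2 hb, sub_zero] at h2
    exact h2
  have h := Ideal.iInf_pow_smul_eq_bot_of_isLocalRing (M := A ⧸ N) (maximalIdeal P)
    (maximalIdeal.isMaximal P).ne_top
  exact (Submodule.Quotient.mk_eq_zero N).1 ((Submodule.mem_bot P).1 (h ▸ Submodule.mem_iInf _ |>.2 hmem))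

/-- The substituted series with coefficients in a subfield lie in a closed subring. -/
theorem expand_coeffIn_mem {κ A : Type u} [Field κ] [CommRing A] [IsLocalRing A] (p : ℕ) (hp : p ≠ 0) {n : ℕ}
    (φ : MvPowerSeries (Fin n) κ →+* A) (hφ : ∀ i, φ (X i) ∈ maximalIdeal A) (F : Subfield κ) (N : Subring A)
    (hN : ∀ a, (∀ j, ∃ b ∈ N, a - b ∈ maximalIdeal A ^ j) → a ∈ N)
    (hC : ∀ c ∈ F, φ (C c) ∈ N) (hX : ∀ i, φ (X i ^ p) ∈ N) (q : MvPowerSeries (Fin n) F) :
    φ (expand p hp (coeffIn F q)) ∈ N := by
  refine hN _ fun j => ?_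
  obtain ⟨π, hπ⟩ := PSLib.exists_polynomial_sub_mem q j
  let ψ : MvPowerSeries (Fin n) F →+* A := φ.comp ((expand p hp).toRingHom.comp (coeffIn F))
  have hψC : ∀ c : F, ψ (C c) = φ (C (c : κ)) := fun c => by
    show φ (expand p hp (MvPowerSeries.map F.subtype (C c))) = _
    rw [map_C, expand_C]
    rfl
  have hψX : ∀ i, ψ (X i) = φ (X i ^ p) := fun i => by
    show φ (expand p hp (MvPowerSeries.map F.subtype (X i))) = _
    rw [map_X, expand_X]
  refine ⟨ψ π, ?_, ?_⟩
  · clear hπ
    induction π using MvPolynomial.induction_on with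
    | C c => rw [MvPolynomial.coe_C, hψC]; exact hC _ c.2
    | add a b ha hb => rw [MvPolynomial.coe_add, map_add]; exact N.add_mem ha hb
    | mul_X a i ha =>
      rw [MvPolynomial.coe_mul, map_mul, MvPolynomial.coe_X, hψX]
      exact N.mul_mem ha (hX i)
  · show ψ q - ψ π ∈ _
    rw [← map_sub]
    have hle : (PSLib.vars n F ^ j).map ψ ≤ maximalIdeal A ^ j := by
      rw [Ideal.map_pow]
      refine Ideal.pow_right_mono ?_ j
      rw [PSLib.vars, Ideal.map_span, Ideal.span_le]
      rintro _ ⟨_, ⟨i, rfl⟩, rfl⟩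
      show ψ (X i) ∈ _
      rw [hψX, map_pow]
      exact Ideal.pow_mem_of_mem _ (hφ i) p (Nat.pos_of_ne_zero hp)
    exact hle (Ideal.mem_map_of_mem ψ hπ)

/-- A finite extension generated by its `p`-th powers and the base is separable. -/
theorem isSeparable_of_generators {F₁ F L : Type u} [Field F₁] [Field F] [Field L] [Algebra F₁ L] [Algebra F L]
    [Module.Finite F₁ L] (p : ℕ) [CharP L p] (S : Set L) (hS : IntermediateField.adjoin F S = ⊤)
    (hF : ∀ c : F, algebraMap F L c ∈ Subfield.closure (Set.range (algebraMap F₁ L) ∪ Set.range fun z : L => z ^ p))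
    (hS' : ∀ s ∈ S, s ∈ Subfield.closure (Set.range (algebraMap F₁ L) ∪ Set.range fun z : L => z ^ p)) :
    Algebra.IsSeparable F₁ L := by
  let D := KaehlerDifferential.D F₁ L
  let Z : Subfield L :=
    { carrier := {z | D z = 0}
      mul_mem' := fun {a b} (ha : D a = 0) (hb : D b = 0) => show D (a * b) = 0 by
        rw [Derivation.leibniz, ha, hb, smul_zero, smul_zero, add_zero]
      one_mem' := D.map_one_eq_zero
      add_mem' := fun {a b} (ha : D a = 0) (hb : D b = 0) => show D (a + b) = 0 by rw [map_add, ha, hb, add_zero]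
      zero_mem' := map_zero D
      neg_mem' := fun {a} (ha : D a = 0) => show D (-a) = 0 by rw [map_neg, ha, neg_zero]
      inv_mem' := fun a (ha : D a = 0) => show D a⁻¹ = 0 by rw [Derivation.leibniz_inv, ha, smul_zero] }
  have hcl : Subfield.closure (Set.range (algebraMap F₁ L) ∪ Set.range fun z : L => z ^ p) ≤ Z := by
    refine Subfield.closure_le.2 ?_
    rintro x (⟨c, rfl⟩ | ⟨z, rfl⟩)
    · exact D.map_algebraMap c
    · show D (z ^ p) = 0
      rw [Derivation.leibniz_pow, ← Nat.cast_smul_eq_nsmul L, CharP.cast_eq_zero, zero_smul]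
  let Z' : IntermediateField F L := Subfield.toIntermediateField Z fun c => hcl (hF c)
  have htop : ∀ z : L, D z = 0 := fun z => by
    have h : IntermediateField.adjoin F S ≤ Z' := IntermediateField.adjoin_le_iff.2 fun s hs => hcl (hS' s hs)
    rw [hS] at h
    exact h (IntermediateField.mem_top (x := z))
  haveI : Subsingleton Ω[L⁄F₁] := subsingleton_of_forall_eq 0 fun w => by
    have hw : w ∈ Submodule.span L (Set.range D) := KaehlerDifferential.span_range_derivation F₁ L ▸ Submodule.mem_top
    rw [show Submodule.span L (Set.range D) = ⊥ from Submodule.span_eq_bot.2 (by rintro _ ⟨z, rfl⟩; exact htop z)] at hw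
    exact (Submodule.mem_bot L).1 hw
  haveI : Algebra.FormallyUnramified F₁ L := ⟨inferInstance⟩
  exact Algebra.FormallyUnramified.isSeparable F₁ L

end Groth.Agent.CGab
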