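import Mathlib

/-!
# Degrees of purely inseparable extensions of exponent one
-/

set_option autoImplicit false
set_option linter.style.haveILetI false

universe u

open IntermediateField

namespace Groth.Agent.CGab

variable {F L : Type*} [Field F] [Field L] [Algebra F L] (p : ℕ) [Fact p.Prime]

/-- One more `p`-th root multiplies the degree by at most `p`. -/
theorem finrank_adjoin_le {E : IntermediateField F L} [FiniteDimensional F E] {t : L} (ht : t ^ p ∈ E) :
    FiniteDimensional F (IntermediateField.adjoin F ((E : Set L) ∪ {t})) ∧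
      Module.finrank F (IntermediateField.adjoin F ((E : Set L) ∪ {t})) ≤ p * Module.finrank F E := by
  have hp : 0 < p := (Fact.out : p.Prime).pos
  have hroot : Polynomial.aeval t (Polynomial.X ^ p - Polynomial.C (⟨t ^ p, ht⟩ : E)) = 0 := by simp
  have hmon := Polynomial.monic_X_pow_sub_C (⟨t ^ p, ht⟩ : E) hp.ne'
  have hint : IsIntegral E t := ⟨_, hmon, hroot⟩
  haveI : FiniteDimensional E E⟮t⟯ := adjoin.finiteDimensional hint
  haveI : FiniteDimensional F E⟮t⟯ := Module.Finite.trans E _
  have heq : IntermediateField.adjoin F ((E : Set L) ∪ {t}) = (E⟮t⟯).restrictScalars F := by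
    rw [IntermediateField.restrictScalars_adjoin]
  rw [heq]
  refine ⟨inferInstanceAs (FiniteDimensional F E⟮t⟯), ?_⟩
  show Module.finrank F E⟮t⟯ ≤ _
  rw [← Module.finrank_mul_finrank F E E⟮t⟯, adjoin.finrank hint, mul_comm]
  refine Nat.mul_le_mul_right _ ?_
  exact (Polynomial.natDegree_le_of_dvd (minpoly.dvd E t hroot) hmon.ne_zero).trans
    (Polynomial.natDegree_X_pow_sub_C (R := E)).le

/-- Finitely many `p`-th roots generate at most degree `p ^ m`. -/
theorem finrank_adjoin_roots : ∀ (m : ℕ) (t : Fin m → L), (∀ i, t i ^ p ∈ (algebraMap F L).fieldRange) →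
    FiniteDimensional F (IntermediateField.adjoin F (Set.range t)) ∧
      Module.finrank F (IntermediateField.adjoin F (Set.range t)) ≤ p ^ m := by
  intro m
  induction m with
  | zero =>
    intro t _
    rw [Set.range_eq_empty t, IntermediateField.adjoin_empty]
    exact ⟨inferInstance, by rw [IntermediateField.finrank_bot, pow_zero]⟩
  | succ m ih =>
    intro t ht
    obtain ⟨hfin, hle⟩ := ih (Fin.init t) fun i => ht _
    haveI := hfin
    let E := IntermediateField.adjoin F (Set.range (Fin.init t))
    have hE : IntermediateField.adjoin F (Set.range t) = IntermediateField.adjoin F ((E : Set L) ∪ {t (Fin.last m)}) := by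
      refine le_antisymm (adjoin_le_iff.2 ?_) (adjoin_le_iff.2 ?_)
      · rintro _ ⟨i, rfl⟩
        refine Fin.lastCases (subset_adjoin _ _ (Or.inr rfl)) (fun i => ?_) i
        exact subset_adjoin _ _ (Or.inl (subset_adjoin _ _ ⟨i, rfl⟩))
      · rintro x (hx | rfl)
        · exact adjoin.mono F (Set.range (Fin.init t)) (Set.range t) (Set.range_subset_iff.2 fun i => ⟨i.castSucc, rfl⟩) hx
        · exact subset_adjoin _ _ ⟨_, rfl⟩
    obtain ⟨c, hc⟩ := ht (Fin.last m)
    rw [hE]
    obtain ⟨h1, h2⟩ := finrank_adjoin_le p (E := E) (t := t (Fin.last m)) (hc ▸ E.algebraMap_mem c)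
    refine ⟨h1, h2.trans ?_⟩
    rw [pow_succ']
    exact Nat.mul_le_mul_left p hle

/-- Choices avoiding proper intermediate fields multiply the degree by `p` each time. -/
theorem exists_choices [FiniteDimensional F L] [CharP L p] (M : IntermediateField F L) (hM : ∀ z : L, z ^ p ∈ M) :
    ∀ (m : ℕ) (C : Fin m → Set L), (∀ i, (C i).Nonempty) →
      (∀ i (E : IntermediateField F L), M ≤ E → E ≠ ⊤ → ∃ t ∈ C i, t ∉ E) →
      ∃ t : Fin m → L, (∀ i, t i ∈ C i) ∧ (IntermediateField.adjoin F ((M : Set L) ∪ Set.range t) = ⊤ ∨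
        p ^ m * Module.finrank F M ≤ Module.finrank F (IntermediateField.adjoin F ((M : Set L) ∪ Set.range t))) := by
  intro m
  induction m with
  | zero =>
    intro C _ _
    refine ⟨Fin.elim0, fun i => i.elim0, Or.inr ?_⟩
    rw [Set.range_eq_empty, Set.union_empty, IntermediateField.adjoin_self, pow_zero, one_mul]
  | succ m ih =>
    intro C hne hC
    obtain ⟨t, ht, hcase⟩ := ih (Fin.init C) (fun i => hne _) fun i => hC _
    let E := IntermediateField.adjoin F ((M : Set L) ∪ Set.range t)
    have hmono : ∀ a, E ≤ IntermediateField.adjoin F ((M : Set L) ∪ Set.range (Fin.snoc t a)) := fun a =>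
      adjoin.mono _ _ _ (Set.union_subset_union_right _ (Set.range_subset_iff.2 fun i =>
        ⟨i.castSucc, Fin.snoc_castSucc ..⟩))
    have hmem : ∀ a, a ∈ C (Fin.last m) → ∀ i, (Fin.snoc t a : Fin (m + 1) → L) i ∈ C i := fun a ha i => by
      refine Fin.lastCases ?_ (fun i => ?_) i
      · rwa [Fin.snoc_last]
      · rw [Fin.snoc_castSucc]; exact ht i
    by_cases hE : E = ⊤
    · obtain ⟨a, ha⟩ := hne (Fin.last m)
      exact ⟨Fin.snoc t a, hmem a ha, Or.inl (top_unique (hE.ge.trans (hmono a)))⟩
    · obtain ⟨a, ha, haE⟩ := hC (Fin.last m) E (fun x hx => subset_adjoin _ _ (Or.inl hx)) hE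
      refine ⟨Fin.snoc t a, hmem a ha, Or.inr ?_⟩
      have hp : a ^ p ∈ E := subset_adjoin _ _ (Or.inl (hM a))
      have hmin : (minpoly E a).natDegree = p := by
        have hirr : Irreducible (Polynomial.X ^ p - Polynomial.C (⟨a ^ p, hp⟩ : E)) := by
          refine X_pow_sub_C_irreducible_of_prime Fact.out fun b hb => haE ?_
          have hb' : (b : L) ^ p = a ^ p := congrArg Subtype.val hb
          exact (frobenius_inj L p hb') ▸ b.2
        rw [← minpoly.eq_of_irreducible_of_monic hirr (by simp) (Polynomial.monic_X_pow_sub_C _ (Fact.out : p.Prime).ne_zero),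
          Polynomial.natDegree_X_pow_sub_C]
      have hint : IsIntegral E a := IsIntegral.of_finite E a
      have h2 : Module.finrank F E⟮a⟯ = p * Module.finrank F E := by
        rw [← Module.finrank_mul_finrank F E E⟮a⟯, adjoin.finrank hint, hmin, mul_comm]
      refine (show p ^ (m + 1) * Module.finrank F M ≤ p * Module.finrank F E by
        rw [pow_succ', mul_assoc]; exact Nat.mul_le_mul_left p (hcase.resolve_left hE)).trans (h2 ▸ ?_)
      exact Submodule.finrank_mono (t := (IntermediateField.adjoin F ((M : Set L) ∪ Set.range (Fin.snoc t a))).toSubmodule)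
        (show ((E⟮a⟯).restrictScalars F).toSubmodule ≤ _ from fun x hx => by
          refine (show (E⟮a⟯).restrictScalars F ≤ _ from ?_) hx
          rw [IntermediateField.restrictScalars_adjoin, adjoin_le_iff]
          rintro y (hy | rfl)
          · exact hmono a hy
          · exact subset_adjoin _ _ (Or.inr ⟨Fin.last m, Fin.snoc_last ..⟩))

end Groth.Agent.CGab
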