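import Mathlib
import Groth.Agent.PBasisLib.Smooth
import Groth.Agent.PBasisLib.Field

/-!
# Coefficient fields with prescribed values on a `p`-basis; independence descends to a member of a directed family
-/

set_option autoImplicit false
set_option linter.style.haveILetI false

universe u

open IsLocalRing EGA41

namespace Groth.Agent.CGab

/-- A coefficient field taking prescribed values on a `p`-basis of the residue field. -/
theorem exists_section (p : ℕ) [Fact p.Prime] {k A : Type u} [Field k] [CharP k p] [PerfectRing k p] [CommRing A]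
    [IsLocalRing A] [IsAdicComplete (maximalIdeal A) A] [Algebra k A] [CharP (ResidueField A) p]
    {ι : Type u} {x : ι → ResidueField A} (hx : IsPBasis p k x) (z : ι → A) (hz : ∀ i, residue A (z i) = x i) :
    ∃ σ : ResidueField A →+* A, (∀ c, residue A (σ c) = c) ∧ ∀ i, σ (x i) = z i := by
  let m := maximalIdeal A
  have hle : ∀ n : ℕ, m ^ (n + 1) ≤ m := fun n => Ideal.pow_le_self (Nat.succ_ne_zero n)
  let R : ∀ n : ℕ, Ideal (A ⧸ m ^ (n + 1)) := fun n => m.map (Ideal.Quotient.mk (m ^ (n + 1)))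
  let e : ∀ n : ℕ, ((A ⧸ m ^ (n + 1)) ⧸ R n) ≃ₐ[k] A ⧸ m := fun n => DoubleQuot.quotQuotEquivQuotOfLEₐ k (hle n)
  have he : ∀ n a, e n (Ideal.Quotient.mk (R n) (Ideal.Quotient.mk (m ^ (n + 1)) a)) = Ideal.Quotient.mk m a :=
    fun n a => rfl
  let v : ∀ n : ℕ, ResidueField A →ₐ[k] (A ⧸ m ^ (n + 1)) ⧸ R n := fun n => (e n).symm.toAlgHom
  have hw : ∀ n : ℕ, ∃! w : ResidueField A →ₐ[k] A ⧸ m ^ (n + 1),
      (Ideal.Quotient.mkₐ k (R n)).comp w = v n ∧ ∀ i, w (x i) = Ideal.Quotient.mk _ (z i) := fun n =>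
    PBasisLib.existsUnique_lift p hx (A ⧸ m ^ (n + 1)) (R n)
      ⟨n + 1, by rw [Submodule.zero_eq_bot, ← Ideal.map_pow, Ideal.map_quotient_self]⟩
      (v n) (fun i => Ideal.Quotient.mk _ (z i)) (fun i => (e n).injective (by
        rw [he]; exact (hz i).trans ((e n).apply_symm_apply (x i)).symm))
  choose w hw₁ hwu using hw
  have hres : ∀ n c a, w n c = Ideal.Quotient.mk _ a → Ideal.Quotient.mk m a = c := fun n c a h => by
    rw [← he n, ← h]
    have h1 := AlgHom.congr_fun (hw₁ n).1 c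
    exact (congrArg (e n) h1).trans ((e n).apply_symm_apply c)
  have hfac : ∀ {i j : ℕ} (h : i ≤ j), (Ideal.Quotient.factorₐ k (Ideal.pow_le_pow_right (Nat.succ_le_succ h))).comp
      (w j) = w i := fun {i j} h => hwu i _ ⟨AlgHom.ext fun c => (e i).injective (by
    obtain ⟨a, ha⟩ := Ideal.Quotient.mk_surjective (w j c)
    show e i (Ideal.Quotient.mk _ (Ideal.Quotient.factorPow m (Nat.succ_le_succ h) (w j c))) = e i ((e i).symm c)
    rw [← ha, (e i).apply_symm_apply]
    exact hres j c a ha.symm), fun l => by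
    show Ideal.Quotient.factorPow m (Nat.succ_le_succ h) (w j (x l)) = _
    rw [(hw₁ j).2]
    rfl⟩
  let f : (n : ℕ) → ResidueField A →+* A ⧸ m ^ n := fun n =>
    (Ideal.Quotient.factorPow m (Nat.le_succ n)).comp (w n : ResidueField A →+* A ⧸ m ^ (n + 1))
  have hf : ∀ {i j : ℕ} (h : i ≤ j), (Ideal.Quotient.factorPow m h).comp (f j) = f i := fun {i j} h => by
    ext c
    obtain ⟨a, ha⟩ := Ideal.Quotient.mk_surjective (w j c)
    show Ideal.Quotient.factorPow m h (Ideal.Quotient.factorPow m (Nat.le_succ j) (w j c)) =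
      Ideal.Quotient.factorPow m (Nat.le_succ i) (w i c)
    rw [← AlgHom.congr_fun (hfac h) c]
    show _ = Ideal.Quotient.factorPow m (Nat.le_succ i) (Ideal.Quotient.factorPow m (Nat.succ_le_succ h) (w j c))
    rw [← ha]
    rfl
  let σ := IsAdicComplete.liftRingHom m f hf
  refine ⟨σ, fun c => ?_, fun i => IsHausdorff.eq_iff_smodEq (I := m).2 fun n => ?_⟩
  · obtain ⟨a, ha⟩ := Ideal.Quotient.mk_surjective (w 1 c)
    have h1 : Ideal.Quotient.mk (m ^ 1) (σ c) = f 1 c := IsAdicComplete.mk_liftRingHom m f hf 1 c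
    have h2 : f 1 c = Ideal.Quotient.mk (m ^ 1) a := by
      show Ideal.Quotient.factorPow m (Nat.le_succ 1) (w 1 c) = _
      rw [← ha]; rfl
    exact (Ideal.Quotient.eq.2 ((pow_one m).le (Ideal.Quotient.eq.1 (h1.trans h2)))).trans (hres 1 c a ha.symm)
  · rw [smul_eq_mul, Ideal.mul_top, SModEq.sub_mem, ← Ideal.Quotient.eq]
    refine (IsAdicComplete.mk_liftRingHom m f hf n (x i)).trans ?_
    show Ideal.Quotient.factorPow m (Nat.le_succ n) (w n (x i)) = _
    rw [(hw₁ n).2]
    rfl

variable {L : Type u} [Field L]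

/-- Linear independence over a set of scalars. -/
def Indep (S : Set L) {m : ℕ} (v : Fin m → L) : Prop :=
  ∀ c : Fin m → L, (∀ j, c j ∈ S) → ∑ j, c j * v j = 0 → c = 0

/-- Independence over the intersection of a directed family descends to a member. -/
theorem exists_indep {α : Type*} [Nonempty α] (F : α → Subfield L) (hdir : ∀ i j, ∃ k, F k ≤ F i ∧ F k ≤ F j)
    (S : Set L) (h : ∀ z, (∀ i, z ∈ F i) → z ∈ S) (h0 : (0 : L) ∈ S) (hneg : ∀ z ∈ S, -z ∈ S) (h1 : (1 : L) ∈ S) :
    ∀ (m : ℕ) (v : Fin m → L), Indep S v → ∃ i, Indep (F i : Set L) v := by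
  intro m
  induction m with
  | zero => exact fun v _ => ⟨Classical.arbitrary α, fun c _ _ => Subsingleton.elim _ _⟩
  | succ m ih =>
    intro v hv
    obtain ⟨i₀, hi₀⟩ := ih (fun j => v j.castSucc) fun c hc hsum => by
      have := hv (Fin.snoc c 0) (fun j => by
        refine Fin.lastCases ?_ (fun j => ?_) j
        · rwa [Fin.snoc_last]
        · rw [Fin.snoc_castSucc]; exact hc j)
        (by rw [Fin.sum_univ_castSucc]; simp [hsum])
      funext j
      simpa using congrFun this j.castSucc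
    by_contra hno
    push Not at hno
    have hrep : ∀ i, ∃ i' a, F i' ≤ F i ∧ F i' ≤ F i₀ ∧ (∀ j, (a : Fin m → L) j ∈ F i') ∧
        v (Fin.last m) = ∑ j, a j * v j.castSucc := by
      intro i
      obtain ⟨i', h', h''⟩ := hdir i i₀
      obtain ⟨c, hc, hsum, hne⟩ : ∃ c : Fin (m + 1) → L, (∀ j, c j ∈ F i') ∧ ∑ j, c j * v j = 0 ∧ c ≠ 0 := by
        have hi := hno i'
        simp only [Indep, not_forall] at hi
        obtain ⟨c, hc, hs, hne⟩ := hi
        exact ⟨c, hc, hs, hne⟩
      rw [Fin.sum_univ_castSucc] at hsum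
      have hl : c (Fin.last m) ≠ 0 := fun h0' => hne (by
        rw [h0', zero_mul, add_zero] at hsum
        have h2 := hi₀ (fun j => c j.castSucc) (fun j => h'' (hc _)) hsum
        funext j
        exact Fin.lastCases h0' (fun j => congrFun h2 j) j)
      refine ⟨i', fun j => -(c j.castSucc) / c (Fin.last m), h', h'', fun j => div_mem (neg_mem (hc _)) (hc _), ?_⟩
      refine mul_left_cancel₀ hl ?_
      rw [Finset.mul_sum, eq_neg_of_add_eq_zero_right hsum, ← Finset.sum_neg_distrib]
      exact Finset.sum_congr rfl fun j _ => by field_simp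
    choose i' a hle hle₀ ha hva using hrep
    have hu : ∀ i j, a i j = a i₀ j := fun i j => sub_eq_zero.1 (congrFun (hi₀ (fun j => a i j - a i₀ j)
      (fun j => sub_mem (hle₀ i (ha i j)) (hle₀ i₀ (ha i₀ j))) (by
        simp only [sub_mul]
        rw [Finset.sum_sub_distrib, ← hva, ← hva, sub_self])) j)
    have hS : ∀ j, a i₀ j ∈ S := fun j => h _ fun i => hu i j ▸ hle i (ha i j)
    have := hv (Fin.snoc (fun j => -a i₀ j) 1) (fun j => by
      refine Fin.lastCases ?_ (fun j => ?_) j
      · rwa [Fin.snoc_last]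
      · rw [Fin.snoc_castSucc]; exact hneg _ (hS j))
      (by rw [Fin.sum_univ_castSucc]; simp [hva i₀])
    exact one_ne_zero (α := L) (by simpa using congrFun this (Fin.last m))

end Groth.Agent.CGab
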