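import Mathlib
import Groth.Agent.CGab.Section
import Groth.Agent.CGab.Series
import Groth.Agent.CGab.Fields
import Groth.Agent.CGab.Closed
import Groth.Agent.CohenLib.Structure
import Groth.Agent.CplKaehler4.Finite
import Groth.Agent.CplKaehler4.Rank

/-!
# The theorem of Cohen and Gabber for complete local domains of characteristic `p`
-/

set_option autoImplicit false
set_option linter.style.haveILetI false
set_option linter.unusedSectionVars false
set_option maxHeartbeats 800000

universe u

open IsLocalRing EGA41 MvPowerSeries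

noncomputable section

namespace Groth.Agent.CGab

variable (p : ℕ) [Fact p.Prime]

section Residue

variable {k κ : Type u} [Field k] [CharP k p] [PerfectRing k p] [Field κ] [Algebra k κ] [CharP κ p]

/-- An element in every cofinite subfield of a `p`-basis is a `p`-th power. -/
theorem exists_root_of_forall {B : Set κ} (hB : IsPBasis p k (Subtype.val : B → κ)) (c : κ)
    (hc : ∀ i : B, c ∈ PBasisLib.Fp p k (Subtype.val '' ({i}ᶜ : Set B))) : ∃ b, b ^ p = c := by
  classical
  obtain ⟨b, hb⟩ := PBasisLib.exists_basis_D hB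
  have hd : KaehlerDifferential.D k κ c = 0 := by
    refine b.repr.injective (Finsupp.ext fun i => ?_)
    rw [map_zero, Finsupp.zero_apply]
    have h1 := PBasisLib.derivation_mem_span p k (KaehlerDifferential.D k κ) (hc i)
    have h2 : Submodule.span κ ((KaehlerDifferential.D k κ) '' (Subtype.val '' ({i}ᶜ : Set B))) ≤
        LinearMap.ker (b.coord i) := Submodule.span_le.2 (by
      rintro _ ⟨_, ⟨j, hj, rfl⟩, rfl⟩
      show b.coord i _ = 0
      rw [← hb j, Module.Basis.coord_apply, Module.Basis.repr_self, Finsupp.single_eq_of_ne']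
      exact hj)
    exact h2 h1
  by_contra hno
  have hnot : c ∉ PBasisLib.Fp p k (∅ : Set κ) := fun h => by
    rw [PBasisLib.mem_Fp_iff, Algebra.adjoin_empty] at h
    obtain ⟨s, hs⟩ := Algebra.mem_bot.1 h
    obtain ⟨b, hb'⟩ := PBasisLib.exists_root p (A := k) (B := κ) s
    exact hno ⟨b, hb'.trans hs⟩
  have hfree : PBasisLib.SetFree p k ({c} : Set κ) := fun t ht => by
    rw [Set.mem_singleton_iff.1 ht, Set.sdiff_self]
    exact hnot
  have h3 := ((PBasisLib.free_iff_linearIndependent_D p k (Subtype.val : ({c} : Set κ) → κ)).1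
    ((PBasisLib.free_val_iff p k _).2 hfree)).ne_zero ⟨c, rfl⟩
  exact h3 hd

/-- A subring with the `p`-th powers and a set contains the field they generate. -/
theorem mem_of_mem_Fp (S : Subring κ) (T : Set κ) (hpow : ∀ c, c ^ p ∈ S) (hT : T ⊆ S) {c : κ}
    (hc : c ∈ PBasisLib.Fp p k T) : c ∈ S := by
  rw [PBasisLib.mem_Fp_iff] at hc
  induction hc using Algebra.adjoin_induction with
  | mem z hz => exact hT hz
  | algebraMap r =>
    obtain ⟨b, hb⟩ := PBasisLib.exists_root p (A := k) (B := κ) r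
    show ((r : pPowerSubalgebra p k κ) : κ) ∈ S
    rw [← hb]
    exact hpow b
  | add _ _ _ _ h1 h2 => exact S.add_mem h1 h2
  | mul _ _ _ _ h1 h2 => exact S.mul_mem h1 h2

end Residue

variable (A : Type u) [CommRing A] [IsDomain A] [IsNoetherianRing A] [IsLocalRing A]
  [IsAdicComplete (maximalIdeal A) A]

/-- Elements spanning an ideal of definition give a finite injective map from power series. -/
theorem exists_finite_injective {K : Type u} [Field K] {n : ℕ} (σ : K →+* A)
    (hσ : Function.Surjective fun c => residue A (σ c))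
    (x : Fin n → A) (hx : ∀ i, x i ∈ maximalIdeal A) (hrad : maximalIdeal A ≤ (Ideal.span (Set.range x)).radical)
    (hn : ringKrullDim A = n) :
    ∃ φ : MvPowerSeries (Fin n) K →+* A, (∀ c, φ (C c) = σ c) ∧ (∀ i, φ (X i) = x i) ∧ φ.Finite ∧
      IsLocalHom φ ∧ Function.Injective φ := by
  letI : Algebra K A := σ.toAlgebra
  haveI : Module.Finite K (IsLocalRing.ResidueField A) :=
    RingHom.finite_algebraMap.1 (RingHom.Finite.of_surjective _ hσ)
  obtain ⟨ψ, hψX, hψf, hψl⟩ := CplKaehler4.exists_algHom_finite (k := K) x hx hrad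
  haveI : IsDomain (MvPowerSeries (Fin n) K) := NoZeroDivisors.to_isDomain _
  exact ⟨ψ.toRingHom, fun c => ψ.commutes c, hψX, hψf, hψl,
    CohenLib.injective_of_finite _ hψf hn (PSLib.ringKrullDim_eq _ n).le⟩

variable {L : Type u} [Field L] [Algebra A L] [IsFractionRing A L]

/-- A complete local domain of characteristic `p` is finite and generically separable over power series
with coefficients in some coefficient field. -/
theorem exists_separable [CharP A p] (hA : ¬ IsField A) :
    ∃ (n : ℕ) (φ : MvPowerSeries (Fin n) (ResidueField A) →+* A), φ.Finite ∧ Function.Injective φ ∧ IsLocalHom φ ∧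
      ringKrullDim A = n ∧
      Algebra.IsSeparable (Subfield.closure (Set.range ((algebraMap A L).comp φ))) L := by
  classical
  have hp : p ≠ 0 := (Fact.out : p.Prime).ne_zero
  let κ := ResidueField A
  let ι := algebraMap A L
  have hι : Function.Injective ι := IsFractionRing.injective A L
  haveI : CharP L p := charP_of_injective_ringHom hι p
  haveI : CharP κ p := (CharP.charP_iff_prime_eq_zero Fact.out).mpr (by
    rw [← map_natCast (residue A), CharP.cast_eq_zero, map_zero])
  let k₀ := ULift.{u} (ZMod p)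
  letI : Algebra k₀ A := ((ZMod.castHom (dvd_refl p) A).comp ULift.ringEquiv.toRingHom).toAlgebra
  haveI : CharP k₀ p := charP_of_injective_ringHom (f := (ULift.ringEquiv.symm : ZMod p ≃+* k₀).toRingHom)
    (ULift.ringEquiv.symm : ZMod p ≃+* k₀).injective p
  haveI : PerfectRing k₀ p := PerfectRing.ofFiniteOfIsReduced p k₀
  obtain ⟨B, -, -, hB⟩ := PBasisLib.exists_isPBasis p k₀ (L := (∅ : Set κ)) (Set.empty_subset Set.univ)
    (fun t ht => absurd ht (Set.notMem_empty t)) (eq_top_iff.mpr fun y _ => PBasisLib.subset_Fp p k₀ _ (Set.mem_univ y))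
  obtain ⟨σ, hσ, -⟩ := exists_section p hB (fun b => Function.surjInv residue_surjective (b : κ))
    fun b => Function.surjInv_eq _ _
  obtain ⟨n, x, hx, hn, hrad⟩ := CohenLib.exists_fin_sop A
  have hn0 : n ≠ 0 := fun h => hA (isField_iff_maximalIdeal_eq.2 (by
    have h1 := IsLocalRing.maximalIdeal_height_eq_ringKrullDim (R := A)
    rw [hn, h] at h1
    exact Ideal.height_eq_zero_iff_eq_bot.1 (by exact_mod_cast h1)))
  obtain ⟨φ, hφC, hφX, hφf, -, hφi⟩ := exists_finite_injective A σ (fun c => ⟨c, hσ c⟩) x hx hrad hn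
  let P := MvPowerSeries (Fin n) κ
  haveI : IsDomain P := NoZeroDivisors.to_isDomain _
  let Φ : P →+* L := ι.comp φ
  let K₀ : Subfield L := Subfield.closure (Set.range Φ)
  letI : Algebra P A := φ.toAlgebra
  haveI : Module.Finite P A := hφf
  letI : Algebra P L := Φ.toAlgebra
  haveI : IsScalarTower P A L := IsScalarTower.of_algebraMap_eq fun _ => rfl
  letI : Algebra P K₀ := (Φ.codRestrict K₀ fun q => Subfield.subset_closure ⟨q, rfl⟩).toAlgebra
  haveI : IsScalarTower P K₀ L := IsScalarTower.of_algebraMap_eq fun _ => rfl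
  haveI : Module.Finite K₀ L := CplKaehler4.finite_fractionField P A K₀ L
  let w := Module.finBasis K₀ L
  let N := Module.finrank K₀ L
  -- the subfields
  let kf : Finset B → Subfield κ := fun Λ => (PBasisLib.Fp p k₀ (Subtype.val '' ((Λ : Set B)ᶜ))).toSubfield
  have hkpow : ∀ Λ c, c ^ p ∈ kf Λ := fun Λ c => PBasisLib.pow_mem_Fp p k₀ _ c
  have hkmono : ∀ Λ Λ', Λ ⊆ Λ' → kf Λ' ≤ kf Λ := fun Λ Λ' h =>
    PBasisLib.Fp_mono p k₀ (Set.image_mono (Set.compl_subset_compl.2 (Finset.coe_subset.2 h)))
  let G : Finset B → Subfield L := fun Λ =>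
    Subfield.closure (Set.range (Φ.comp ((expand p hp).toRingHom.comp (coeffIn (kf Λ)))))
  have hGmono : ∀ Λ Λ', Λ ⊆ Λ' → G Λ' ≤ G Λ := fun Λ Λ' h => Subfield.closure_mono (by
    rintro _ ⟨q, rfl⟩
    obtain ⟨q', hq'⟩ := exists_coeffIn (kf Λ) (coeffIn (kf Λ') q) fun d => by
      rw [coeffIn, coeff_map]; exact hkmono Λ Λ' h (coeff d q).2
    exact ⟨q', congrArg (fun z => Φ (expand p hp z)) hq'⟩)
  obtain ⟨Λ, hΛ⟩ : ∃ Λ, Indep (G Λ : Set L) (fun j : Fin N => w j ^ p) := by
    refine exists_indep G (fun i j => ⟨i ∪ j, hGmono _ _ Finset.subset_union_left, hGmono _ _ Finset.subset_union_right⟩)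
      {z | ∃ a ∈ K₀, a ^ p = z} (fun z hz => ?_) ⟨0, zero_mem _, zero_pow hp⟩ ?_ ⟨1, one_mem _, one_pow p⟩ N _ ?_
    · obtain ⟨a, b, hab⟩ := exists_pow_eq p hp Φ (hι.comp hφi) kf hkpow
        (fun c hc => exists_root_of_forall p hB c fun i => by
          have h := hc {i}
          simpa [kf] using h) z hz
      exact ⟨_, div_mem (Subfield.subset_closure ⟨a, rfl⟩) (Subfield.subset_closure ⟨b, rfl⟩), hab.symm⟩
    · rintro _ ⟨a, ha, rfl⟩
      exact ⟨-a, neg_mem ha, (map_neg (frobenius L p) a)⟩
    · intro c hc hsum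
      choose a haK ha using hc
      have h1 : (∑ j, a j * w j) ^ p = 0 := by
        rw [sum_pow_char p]
        simpa [mul_pow, ha] using hsum
      have h2 : ∑ j, (⟨a j, haK j⟩ : K₀) • w j = 0 := eq_zero_of_pow_eq_zero h1
      funext j
      have h3 : a j = 0 := congrArg Subtype.val (Fintype.linearIndependent_iff.1 w.linearIndependent _ h2 j)
      rw [← ha j, h3]
      exact zero_pow hp
  -- degree bound
  let e := Λ.card
  let β : Fin e → κ := fun i => ((Λ.equivFin.symm i).1 : κ)
  have hgenκ : ∀ (S : Subring κ), (∀ c ∈ kf Λ, c ∈ S) → (∀ i, β i ∈ S) → ∀ c, c ∈ S := fun S h1 h2 c => by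
    refine mem_of_mem_Fp p S (Set.range (Subtype.val : B → κ)) (fun c => h1 _ (hkpow Λ c)) ?_
      (k := k₀) (show c ∈ PBasisLib.Fp p k₀ _ from (PBasisLib.isPGenerating_iff_Fp p k₀ _).1 hB.2 ▸ IntermediateField.mem_top)
    rintro _ ⟨b, rfl⟩
    by_cases hb : b ∈ Λ
    · obtain ⟨i, hi⟩ : ∃ i, (Λ.equivFin.symm i).1 = b := ⟨Λ.equivFin ⟨b, hb⟩, by simp⟩
      exact hi ▸ h2 i
    · exact h1 _ (PBasisLib.subset_Fp p k₀ _ ⟨b, hb, rfl⟩)
  have hβfin : FiniteDimensional (kf Λ) κ := by
    obtain ⟨hfin, -⟩ := finrank_adjoin_roots (F := kf Λ) (L := κ) p e β fun i => ⟨⟨_, hkpow Λ (β i)⟩, rfl⟩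
    have htop : IntermediateField.adjoin (kf Λ) (Set.range β) = ⊤ := eq_top_iff.2 fun c _ =>
      hgenκ (IntermediateField.adjoin (kf Λ) (Set.range β)).toSubfield.toSubring
        (fun c hc => (IntermediateField.adjoin (kf Λ) (Set.range β)).algebraMap_mem ⟨c, hc⟩)
        (fun i => IntermediateField.subset_adjoin _ _ ⟨i, rfl⟩) c
    rw [htop] at hfin
    exact Module.Finite.equiv (IntermediateField.topEquiv (F := kf Λ) (E := κ)).toLinearEquiv
  let vb := Module.finBasis (kf Λ) κ
  let F : Subfield L := G Λ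
  have hFgen : ∀ q, Φ (expand p hp (coeffIn (kf Λ) q)) ∈ F := fun q => Subfield.subset_closure ⟨q, rfl⟩
  have hFC : ∀ c ∈ kf Λ, Φ (C c) ∈ F := fun c hc => by
    have := hFgen (C ⟨c, hc⟩)
    rwa [coeffIn, map_C, expand_C] at this
  have hFX : ∀ j, Φ (X j ^ p) ∈ F := fun j => by
    have := hFgen (X j)
    rwa [coeffIn, map_X, expand_X] at this
  let g : Fin (e + n) → L := Fin.append (fun i => Φ (C (β i))) (fun j => Φ (X j))
  obtain ⟨hE0fin, hE0le⟩ := finrank_adjoin_roots (F := F) p (e + n) g (fun i => by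
    refine Fin.addCases (fun i => ?_) (fun j => ?_) i
    · simp only [g, Fin.append_left]
      refine ⟨⟨_, hFC _ (hkpow Λ (β i))⟩, ?_⟩
      show Φ (C (β i ^ p)) = _
      rw [map_pow, map_pow]
    · simp only [g, Fin.append_right]
      exact ⟨⟨_, hFX j⟩, map_pow Φ _ _⟩)
  let E₀ := IntermediateField.adjoin F (Set.range g)
  have hκE : ∀ c : κ, Φ (C c) ∈ E₀ := hgenκ (E₀.toSubfield.toSubring.comap (Φ.comp C))
    (fun c hc => E₀.algebraMap_mem ⟨_, hFC c hc⟩)
    (fun i => IntermediateField.subset_adjoin F _ ⟨Fin.castAdd n i, Fin.append_left ..⟩)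
  have hPE : ∀ q : P, Φ q ∈ E₀ := fun q => by
    obtain ⟨r, hr⟩ := exists_decomp p hp (kf Λ) vb (fun c => ⟨fun i => vb.repr c i, by
      conv_lhs => rw [← vb.sum_repr c]
      rfl⟩) q
    rw [hr, map_sum]
    refine sum_mem fun re _ => ?_
    rw [map_mul, map_mul]
    refine mul_mem (mul_mem (hκE _) ?_) (E₀.algebraMap_mem ⟨_, hFgen _⟩)
    rw [monomial_one_eq, map_finsuppProd]
    refine prod_mem fun i _ => ?_
    show Φ (X i ^ _) ∈ E₀
    rw [map_pow]
    exact pow_mem (IntermediateField.subset_adjoin F _ (Set.mem_range.2 ⟨Fin.natAdd e i, Fin.append_right ..⟩)) _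
  have hK₀ : K₀ ≤ E₀.toSubfield := Subfield.closure_le.2 (by rintro _ ⟨q, rfl⟩; exact hPE q)
  have hspan : Submodule.span E₀ (Set.range w) = ⊤ := eq_top_iff.2 fun z _ => by
    rw [← w.sum_repr z]
    exact Submodule.sum_mem _ fun j _ =>
      Submodule.smul_mem _ (⟨(w.repr z j : L), hK₀ (w.repr z j).2⟩ : E₀) (Submodule.subset_span ⟨j, rfl⟩)
  haveI : FiniteDimensional F E₀ := hE0fin
  haveI : Module.Finite E₀ L := Module.finite_def.2 (hspan ▸ Submodule.fg_span (Set.finite_range w))
  haveI : FiniteDimensional F L := Module.Finite.trans E₀ L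
  have hLdeg : Module.finrank F L ≤ p ^ (e + n) * N := by
    rw [← Module.finrank_mul_finrank F E₀ L]
    refine Nat.mul_le_mul hE0le ?_
    have := finrank_range_le_card (R := E₀) (w : Fin N → L)
    rwa [Set.finrank, hspan, finrank_top, Fintype.card_fin] at this
  let M := IntermediateField.adjoin F (Set.range fun z : L => z ^ p)
  have hM : ∀ z : L, z ^ p ∈ M := fun z => IntermediateField.subset_adjoin _ _ ⟨z, rfl⟩
  have hMdeg : N ≤ Module.finrank F M := by
    have hli : LinearIndependent F (fun j : Fin N => (⟨w j ^ p, hM _⟩ : M)) := by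
      refine Fintype.linearIndependent_iff.2 fun c hc j => Subtype.ext ?_
      have h := congrArg (fun z : M => (z : L)) hc
      simp only [IntermediateField.coe_sum, IntermediateField.coe_smul, ZeroMemClass.coe_zero] at h
      exact congrFun (hΛ (fun j => (c j : L)) (fun j => (c j).2) h) j
    simpa using hli.fintype_card_le_finrank
  -- the choices
  obtain ⟨x₀, hx₀, hx₀0⟩ : ∃ x₀ ∈ maximalIdeal A, x₀ ≠ 0 :=
    Submodule.exists_mem_ne_zero_of_ne_bot (fun h => hA (isField_iff_maximalIdeal_eq.2 h))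
  have hxne : ∀ j, x j ≠ 0 := fun j h => by
    have h1 := hφX j
    rw [h, map_eq_zero_iff φ hφi] at h1
    have h2 := congrArg (coeff (Finsupp.single j 1)) h1
    rw [coeff_index_single_self_X, map_zero] at h2
    exact one_ne_zero h2
  let Cs : Fin (e + n) → Set L := Fin.append (fun i => ι '' {a | residue A a = β i})
    (fun j => Set.range fun v : Aˣ => ι (v * x j))
  have hLtop : ∀ E : IntermediateField F L, (∀ a : A, ι a ∈ E) → E = ⊤ := fun E h => eq_top_iff.2 fun z _ => by
    obtain ⟨a, b, -, rfl⟩ := IsFractionRing.div_surjective (A := A) z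
    exact div_mem (h a) (h b)
  obtain ⟨t, ht, hcase⟩ := exists_choices p M hM (e + n) Cs (fun i => by
      refine Fin.addCases (fun i => ?_) (fun j => ?_) i
      · simp only [Cs, Fin.append_left]
        exact ⟨_, σ (β i), hσ _, rfl⟩
      · simp only [Cs, Fin.append_right]
        exact ⟨_, 1, rfl⟩) (fun i E _ hE => by
      by_contra! hall
      refine hE (hLtop E ?_)
      revert hall
      refine Fin.addCases (fun i => ?_) (fun j => ?_) i <;> intro hall
      · simp only [Cs, Fin.append_left] at hall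
        have hm : ∀ m ∈ maximalIdeal A, ι m ∈ E := fun m hm => by
          have h1 := hall _ ⟨σ (β i), hσ _, rfl⟩
          have h2 := hall _ ⟨σ (β i) + m, by
            show residue A (σ (β i) + m) = β i
            rw [map_add, hσ, (residue_eq_zero_iff m).2 hm, add_zero], rfl⟩
          simpa [ι] using sub_mem h2 h1
        intro a
        have h3 := div_mem (hm _ (Ideal.mul_mem_left _ a hx₀)) (hm x₀ hx₀)
        rwa [map_mul, mul_div_assoc, div_self ((map_ne_zero_iff ι hι).2 hx₀0), mul_one] at h3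
      · simp only [Cs, Fin.append_right] at hall
        have hu : ∀ v : A, IsUnit v → ι v ∈ E := fun v ⟨v', hv⟩ => by
          have h3 := div_mem (hall _ ⟨v', rfl⟩) (hall _ ⟨1, rfl⟩)
          simp only [map_mul, Units.val_one, one_mul] at h3
          rwa [mul_div_assoc, div_self ((map_ne_zero_iff ι hι).2 (hxne j)), mul_one, hv] at h3
        intro a
        by_cases ha : IsUnit a
        · exact hu a ha
        · have h4 : IsUnit (1 + a) := by
            have := IsLocalRing.isUnit_or_isUnit_of_add_one (R := A) (a := 1 + a) (b := -a) (by ring)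
            simpa [ha] using this
          have := sub_mem (hu _ h4) (hu 1 isUnit_one)
          simpa using this)
  have htop : IntermediateField.adjoin F ((M : Set L) ∪ Set.range t) = ⊤ := by
    refine hcase.elim id fun h => ?_
    refine IntermediateField.eq_of_le_of_finrank_le le_top ?_
    rw [IntermediateField.finrank_top']
    exact (hLdeg.trans (Nat.mul_le_mul_left _ hMdeg)).trans h
  have hti : ∀ i : Fin e, ∃ a, residue A a = β i ∧ ι a = t (Fin.castAdd n i) := fun i => by
    have := ht (Fin.castAdd n i)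
    simp only [Cs, Fin.append_left] at this
    exact this
  choose a hares hat using hti
  have htj : ∀ j : Fin n, ∃ v : Aˣ, ι (v * x j) = t (Fin.natAdd e j) := fun j => by
    have := ht (Fin.natAdd e j)
    simp only [Cs, Fin.append_right] at this
    exact this
  choose v hv using htj
  let z' : B → A := fun b => if hb : b ∈ Λ then a (Λ.equivFin ⟨b, hb⟩) else σ (b : κ)
  obtain ⟨σ', hσ', hσz⟩ := exists_section p hB z' (fun b => by
    simp only [z']
    split_ifs with hb
    · rw [hares]; simp [β]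
    · exact hσ _)
  let y : Fin n → A := fun j => v j * x j
  have hy : ∀ j, y j ∈ maximalIdeal A := fun j => Ideal.mul_mem_left _ _ (hx j)
  have hrad' : maximalIdeal A ≤ (Ideal.span (Set.range y)).radical := by
    refine hrad.trans (Ideal.radical_mono (Ideal.span_le.2 ?_))
    rintro _ ⟨j, rfl⟩
    have := Ideal.mul_mem_left (Ideal.span (Set.range y)) ↑(v j)⁻¹ (Ideal.subset_span ⟨j, rfl⟩)
    simpa [y, ← mul_assoc] using this
  obtain ⟨ψ, hψC, hψX, hψf, hψl, hψi⟩ := exists_finite_injective A σ' (fun c => ⟨c, hσ' c⟩) y hy hrad' hn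
  refine ⟨n, ψ, hψf, hψi, hψl, hn, ?_⟩
  let Ψ : P →+* L := ι.comp ψ
  let K₁ : Subfield L := Subfield.closure (Set.range Ψ)
  letI : Algebra P K₁ := (Ψ.codRestrict K₁ fun q => Subfield.subset_closure ⟨q, rfl⟩).toAlgebra
  haveI : Module.Finite K₁ L := by
    letI : Algebra P A := ψ.toAlgebra
    haveI : Module.Finite P A := hψf
    letI : Algebra P L := Ψ.toAlgebra
    haveI : IsScalarTower P A L := IsScalarTower.of_algebraMap_eq fun _ => rfl
    haveI : IsScalarTower P K₁ L := IsScalarTower.of_algebraMap_eq fun _ => rfl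
    exact CplKaehler4.finite_fractionField P A K₁ L
  let Z := Subfield.closure (Set.range (algebraMap K₁ L) ∪ Set.range fun z : L => z ^ p)
  have hZψ : ∀ q, Ψ q ∈ Z := fun q => Subfield.subset_closure (Or.inl ⟨⟨_, Subfield.subset_closure ⟨q, rfl⟩⟩, rfl⟩)
  have hZp : ∀ z : L, z ^ p ∈ Z := fun z => Subfield.subset_closure (Or.inr ⟨z, rfl⟩)
  have hN : ∀ q : MvPowerSeries (Fin n) (kf Λ), Φ (expand p hp (coeffIn (kf Λ) q)) ∈ Z := fun q => by
    letI : Algebra P A := ψ.toAlgebra
    haveI : Module.Finite P A := hψf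
    let Nalg := Algebra.adjoin P (Set.range fun a : A => a ^ p)
    have hNZ : ∀ a ∈ Nalg, ι a ∈ Z := fun a ha => by
      induction ha using Algebra.adjoin_induction with
      | mem _ hz => obtain ⟨b, rfl⟩ := hz; rw [map_pow]; exact hZp _
      | algebraMap r => exact hZψ r
      | add _ _ _ _ h1 h2 => rw [map_add]; exact add_mem h1 h2
      | mul _ _ _ _ h1 h2 => rw [map_mul]; exact mul_mem h1 h2
    haveI : IsRegularLocalRing P := PSLib.isRegularLocalRing _ _
    have hmap : Ideal.span (Set.range y) ≤ (maximalIdeal P).map (algebraMap P A) := by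
      refine Ideal.span_le.2 ?_
      rintro _ ⟨j, rfl⟩
      refine (hψX j).symm ▸ Ideal.mem_map_of_mem (algebraMap P A) ?_
      rw [PSLib.maximalIdeal_eq_vars]
      exact Ideal.subset_span ⟨j, rfl⟩
    obtain ⟨c, hc⟩ := Ideal.exists_pow_le_of_le_radical_of_fg hrad' (IsNoetherian.noetherian _)
    refine hNZ _ (expand_coeffIn_mem p hp φ (fun i => hφX i ▸ hx i) (kf Λ) Nalg.toSubring
      (fun b hb => mem_of_forall_pow Nalg.toSubmodule (hc.trans hmap) b hb) (fun c hc' => ?_) (fun i => ?_) q)
    · rw [hφC]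
      refine mem_of_mem_Fp p (Nalg.toSubring.comap σ) (Subtype.val '' ((Λ : Set B)ᶜ)) (fun d => ?_) ?_ hc'
      · show σ (d ^ p) ∈ Nalg
        rw [map_pow]
        exact Algebra.subset_adjoin ⟨_, rfl⟩
      · rintro _ ⟨b, hb, rfl⟩
        have hb' : b ∉ Λ := hb
        show σ (b : κ) ∈ Nalg
        have h1 := hσz b
        simp only [z', dif_neg hb'] at h1
        rw [← h1, ← hψC]
        exact Nalg.algebraMap_mem (C (b : κ))
    · rw [map_pow, hφX]
      exact Algebra.subset_adjoin ⟨_, rfl⟩
  refine isSeparable_of_generators (F₁ := K₁) (F := F) p _ htop (fun c => ?_) ?_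
  · exact (Subfield.closure_le.2 (by rintro _ ⟨q, rfl⟩; exact hN q) : F ≤ Z) c.2
  rintro s (hs | ⟨i, rfl⟩)
  · let Z' : IntermediateField F L := Subfield.toIntermediateField Z fun c =>
      (Subfield.closure_le.2 (by rintro _ ⟨q, rfl⟩; exact hN q) : F ≤ Z) c.2
    exact (IntermediateField.adjoin_le_iff.2 (by rintro _ ⟨z, rfl⟩; exact hZp z) : M ≤ Z') hs
  · refine Fin.addCases (fun i => ?_) (fun j => ?_) i
    · rw [← hat i]
      have h1 := hσz (Λ.equivFin.symm i).1
      simp only [z', dif_pos (Λ.equivFin.symm i).2, Subtype.coe_eta, Equiv.apply_symm_apply] at h1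
      rw [← h1, ← hψC]
      exact hZψ _
    · rw [← hv j]
      have := hψX j
      rw [show (v j : A) * x j = ψ (X j) from this.symm]
      exact hZψ _

end Groth.Agent.CGab
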