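import Groth.Agent.CGab.Main
import Groth.Agent.S7328
import Groth.Agent.RegRes.Base
import Groth.Agent.CplFib6.CompleteExcellent
import Groth.Agent.S2654
import Groth.Agent.EGA41Lib.IntDim

/-!
# Reduction to rational singularities is possible for complete normal surface germs
-/

set_option autoImplicit false
set_option linter.style.haveILetI false
set_option backward.isDefEq.respectTransparency false
set_option backward.isDefEq.respectTransparency.types false
set_option maxHeartbeats 800000

universe u

open CategoryTheory AlgebraicGeometry IsLocalRing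

noncomputable section

namespace Groth.Agent.CGab

/-- Complete rings are Nagata. -/
theorem isNagata_of_complete (A : Type u) [CommRing A] [IsLocalRing A] [IsNoetherianRing A]
    [IsAdicComplete (maximalIdeal A) A] : CAlg.IsNagata A :=
  S2654.result A ⟨(CplFib6.isExcellent_of_complete A).1, (CplFib6.isExcellent_of_complete A).2.2⟩

/-- A complete normal local domain is finite over a complete regular local ring with separable fraction fields. -/
theorem exists_regular_separable (A : Type u) [CommRing A] [IsDomain A] [IsLocalRing A] [IsNoetherianRing A]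
    [IsAdicComplete (maximalIdeal A) A] (hA : ¬ IsField A) :
    ∃ (P : Type u) (_ : CommRing P) (_ : IsRegularLocalRing P) (_ : IsAdicComplete (maximalIdeal P) P) (f : P →+* A),
      f.Finite ∧ Function.Injective f ∧ ∀ [IsDomain P] (K : Type u) [Field K] [Algebra P K] [IsFractionRing P K]
        [Algebra K (FractionRing A)],
        (∀ q, algebraMap K (FractionRing A) (algebraMap P K q) = algebraMap A (FractionRing A) (f q)) →
        Algebra.IsSeparable K (FractionRing A) := by
  obtain ⟨p, hp⟩ := CharP.exists A
  haveI := hp
  rcases CharP.char_is_prime_or_zero A p with hpp | hp0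
  · haveI := Fact.mk hpp
    obtain ⟨n, φ, hf, hi, -, -, hsep⟩ := exists_separable p A (L := FractionRing A) hA
    obtain ⟨-, hreg, hc⟩ := CohenLib.isRegular_complete_mvPowerSeries
      (Λ := ResidueField A) (.inl (Field.toIsField _)) n
    refine ⟨_, inferInstance, hreg, hc, φ, hf, hi, fun {_} K _ _ _ _ hK => ?_⟩
    haveI := hsep
    let K' : Subfield (FractionRing A) := Subfield.closure (Set.range ((algebraMap A (FractionRing A)).comp φ))
    have hrange : (algebraMap K (FractionRing A)).fieldRange = K' := by
      refine le_antisymm ?_ (Subfield.closure_le.2 (by rintro _ ⟨q, rfl⟩; exact ⟨_, hK q⟩))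
      rintro _ ⟨z, rfl⟩
      obtain ⟨a, b, -, rfl⟩ := IsFractionRing.div_surjective (A := MvPowerSeries (Fin n) (ResidueField A)) z
      rw [map_div₀, hK, hK]
      exact div_mem (Subfield.subset_closure ⟨a, rfl⟩) (Subfield.subset_closure ⟨b, rfl⟩)
    let e : K →+* K' := (algebraMap K (FractionRing A)).codRestrict K' fun z => hrange.le ⟨z, rfl⟩
    let e' : K ≃+* K' := RingEquiv.ofBijective e ⟨fun a b h => (algebraMap K (FractionRing A)).injective
      (congrArg Subtype.val h), fun z => (hrange.ge z.2).imp fun w hw => Subtype.ext hw⟩
    exact Algebra.IsSeparable.of_equiv_equiv e'.symm (RingEquiv.refl _)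
      (RingHom.ext fun z => congrArg Subtype.val (e'.apply_symm_apply z))
  · subst hp0
    haveI := CharP.charP_to_charZero A
    obtain ⟨Λ, _, n, f, hΛ, hi, hf, -⟩ := CohenLib.exists_finite_injective A
    obtain ⟨-, hreg, hc⟩ := CohenLib.isRegular_complete_mvPowerSeries hΛ n
    refine ⟨_, inferInstance, hreg, hc, f, hf, hi, fun {_} K _ _ _ _ hK => ?_⟩
    haveI : CharZero (FractionRing A) := charZero_of_injective_algebraMap (IsFractionRing.injective A _)
    haveI : CharZero K := RingHom.charZero (algebraMap K (FractionRing A))
    haveI : Module.Finite K (FractionRing A) := by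
      letI : Algebra (MvPowerSeries (Fin n) Λ) A := f.toAlgebra
      haveI : Module.Finite (MvPowerSeries (Fin n) Λ) A := hf
      haveI : IsScalarTower (MvPowerSeries (Fin n) Λ) K (FractionRing A) :=
        IsScalarTower.of_algebraMap_eq fun q =>
          (IsScalarTower.algebraMap_apply (MvPowerSeries (Fin n) Λ) A (FractionRing A) q).trans (hK q).symm
      exact CplKaehler4.finite_fractionField (MvPowerSeries (Fin n) Λ) A K (FractionRing A)
    exact inferInstance

/-- Reduction to rational singularities is possible for complete normal two-dimensional local domains. -/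
theorem exists_bound (A : Type u) [CommRing A] [IsDomain A] [IsLocalRing A] [IsNoetherianRing A]
    [IsAdicComplete (maximalIdeal A) A] [IsIntegrallyClosed A] (hdim : ringKrullDim A = 2) :
    ∃ N : ℕ, ∀ (X : Scheme.{u}) [X.Over (Spec (CommRingCat.of A))], IsProper (X ↘ Spec (CommRingCat.of A)) →
        IsIntegral X → Pi1.IsNormalScheme X →
        (∃ U : (Spec (CommRingCat.of A)).Opens, (U : Set (Spec (CommRingCat.of A))).Nonempty ∧
          IsIso ((X ↘ Spec (CommRingCat.of A)) ∣_ U)) →
        Module.length A (Coh.HH X (Coh.structureModule X) 1) ≤ (N : ℕ∞) := by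
  have hA : ¬ IsField A := fun h => by
    have := ringKrullDim_eq_zero_of_isField h
    rw [hdim] at this
    exact absurd this (by decide)
  obtain ⟨P, _, hreg, hc, f, hf, hi, hsep⟩ := exists_regular_separable A hA
  haveI := (S2821.result P).1
  haveI := hc
  haveI := RegLoc6.isIntegrallyClosed_of_isRegularLocalRing P
  letI : Algebra P A := f.toAlgebra
  haveI : Module.Finite P A := hf
  haveI : FaithfulSMul P A := (faithfulSMul_iff_algebraMap_injective _ _).2 hi
  haveI : Algebra.IsIntegral P A := Algebra.IsIntegral.of_finite _ _
  haveI : IsLocalHom (algebraMap P A) := RingHom.IsIntegral.isLocalHom Algebra.IsIntegral.isIntegral hi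
  have hdP : ringKrullDim P = 2 := (EGA41Lib.ringKrullDim_eq_of_integral (A := P) (B := A) hi).symm.trans hdim
  letI : Algebra (FractionRing P) (FractionRing A) :=
    (IsFractionRing.lift (A := P) (g := (algebraMap A (FractionRing A)).comp f)
      ((IsFractionRing.injective A (FractionRing A)).comp hi)).toAlgebra
  have hcompat : ∀ a : P, algebraMap (FractionRing P) (FractionRing A) (algebraMap P (FractionRing P) a) =
      algebraMap A (FractionRing A) (algebraMap P A a) := fun a => IsFractionRing.lift_algebraMap _ a
  haveI := hsep (FractionRing P) hcompat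
  refine S7328.result P A (isNagata_of_complete P) (isNagata_of_complete A) hdP hdim hi hcompat ⟨0, ?_⟩
  intro X _ hP hint hn hiso
  rw [Nat.cast_zero, nonpos_iff_eq_zero, Module.length_eq_zero_iff]
  exact RegRes.isRationalSing_of_regular P hdP X (X ↘ Spec (CommRingCat.of P)) hP hint hn hiso

end Groth.Agent.CGab
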